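import Groth.Agent.S6162
import Groth.Agent.SpSeqLib.Degenerate
import Groth.Agent.CohTopLib.Basic
import Groth.Prelude.Def_CohTop

/-! # The Leray spectral sequence with acyclic higher direct images -/

universe u

set_option linter.style.haveILetI false

open CategoryTheory CategoryTheory.Limits TopologicalSpace Opposite

namespace SheafExLib

variable {X Y : TopCat.{u}}

theorem nonempty_H_equiv_sections (f : X ⟶ Y) (F : CohTop.Ab X)
    (h : ∀ p q : ℕ, Subsingleton (CohTop.H ((CohTop.Rpush f q).obj F) (p + 1))) (q : ℕ) :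
    Nonempty (CohTop.H F q ≃+ ((CohTop.Rpush f q).obj F).obj.obj (op ⊤)) := by
  haveI : (Opens.map f).IsContinuous (Opens.grothendieckTopology Y) (Opens.grothendieckTopology X) :=
    Functor.isContinuous_of_coverPreserving (compatiblePreserving_opens_map f) (coverPreserving_opens_map f)
  haveI : RepresentablyFlat (Opens.map f) := inferInstance
  haveI : PreservesFiniteLimits ((Opens.map f).sheafPullback (Type u) (Opens.grothendieckTopology Y) (Opens.grothendieckTopology X)) :=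
    Functor.SmallCategories.instPreservesFiniteLimitsSheafSheafPullbackOfRepresentablyFlat _ _ _ _
  obtain ⟨E, a, h₁, -, h₃⟩ := Groth.Agent.S6162.result (Opens.grothendieckTopology X)
    (Opens.grothendieckTopology Y) (Opens.map f) F (⊤ : Opens Y)
  have hz : ∀ p q : ℤ, p ≠ 0 → IsZero ((E.page 2 le_rfl).X (p, q)) := fun p q hp => by
    obtain ⟨e⟩ := h₃ p q
    refine IsZero.of_iso ?_ e
    split_ifs with hpq
    · obtain ⟨p, rfl⟩ := Int.eq_ofNat_of_zero_le hpq.1
      obtain ⟨p, rfl⟩ := Nat.exists_eq_succ_of_ne_zero (show p ≠ 0 by simpa using hp)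
      exact @AddCommGrpCat.isZero_of_subsingleton _ ((QCohLib.subsingleton_H_iff _ _).1 (h p q.toNat))
    · exact AddCommGrpCat.isZero_of_subsingleton _
  have hst : SpSeq.StationaryAt E ((0 : ℤ), (q : ℤ) - 0) 2 := by
    refine ⟨le_rfl, fun r h₀ hr => ⟨?_, ?_⟩⟩
    · exact (SpSeqLib.isZero_page_of_le E 2 le_rfl _ (hz ((0 : ℤ) - r) ((q : ℤ) - 0 - (1 - r)) (by lia))
        r hr).eq_of_src _ _
    · exact (SpSeqLib.isZero_page_of_le E 2 le_rfl _ (hz ((0 : ℤ) + r) ((q : ℤ) - 0 + (1 - r)) (by lia))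
        r hr).eq_of_tgt _ _
  obtain ⟨b, hb⟩ := (h₁ q).2
  obtain ⟨c, hc⟩ := (h₁ q).1
  obtain ⟨e⟩ := SpSeqLib.nonempty_iso_of_single E 2 le_rfl a q 0
    (fun p' hp' => hz p' _ hp') ⟨b, hb⟩
    ⟨by rintro _ ⟨x, rfl⟩; exact le_top, fun s hs => hc ▸ hs ⟨c, rfl⟩⟩ hst
  obtain ⟨e'⟩ := h₃ 0 ((q : ℤ) - 0)
  have i : AddCommGrpCat.of (QCohLib.HU F q ((Opens.map f).obj ⊤)) ≅
      AddCommGrpCat.of (QCohLib.HU ((CohTop.Rpush f q).obj F) 0 (⊤ : Opens Y)) :=
    (eqToIso (by simp only [Int.natCast_nonneg, if_true, Int.toNat_natCast]; rfl) : _ ≅ _).symm ≪≫ e ≪≫ e' ≪≫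
      eqToIso (by simp only [sub_zero, le_refl, Int.natCast_nonneg, and_self, if_true, Int.toNat_natCast,
        Int.toNat_zero]; rfl)
  exact ⟨(QCohLib.hEquiv F q).trans (i.addCommGroupIsoToAddEquiv.trans QCohLib.h0)⟩

end SheafExLib
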