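import Groth.Agent.LocSuppLib.Open
import Groth.Agent.LocSuppLib.General
import Groth.Agent.CohLib.ExtSS
import Groth.Prelude.Def_CohCx

/-! # Higher direct images and restriction to an open of the base -/

universe u

set_option linter.style.haveILetI false

open CategoryTheory CategoryTheory.Limits TopologicalSpace Opposite

namespace SheafExLib

open LocSuppLib

variable {X Y : TopCat.{u}} (f : X ⟶ Y) (V : Opens Y)

/-- The restriction of `f` over `V`. -/
abbrev restrBase : TopCat.of ((Opens.map f).obj V) ⟶ TopCat.of V :=
  TopCat.ofHom ⟨(V : Set Y).restrictPreimage f, f.hom.continuous.restrictPreimage⟩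

lemma img_preimage (W : Opens (TopCat.of V)) :
    (Opens.map f).obj (V.isOpenEmbedding.functor.obj W) =
      ((Opens.map f).obj V).isOpenEmbedding.functor.obj ((Opens.map (restrBase f V)).obj W) := by
  ext x
  exact ⟨fun ⟨y, hy, e⟩ => ⟨⟨x, show f x ∈ V from e ▸ y.2⟩,
      show (⟨f x, _⟩ : V) ∈ W from (Subtype.ext e : y = ⟨f x, e ▸ y.2⟩) ▸ hy, rfl⟩,
    fun ⟨z, hz, e⟩ => ⟨(restrBase f V) z, hz, show f z.1 = f x from congrArg f e⟩⟩

/-- Direct image then restriction is restriction then direct image. -/
noncomputable def pushRestrIso : CohTop.push f ⋙ CohTop.restrFunctor V ≅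
    CohTop.restrFunctor ((Opens.map f).obj V) ⋙ CohTop.push (restrBase f V) :=
  NatIso.ofComponents (fun F => (sheafToPresheaf _ _).preimageIso
    (NatIso.ofComponents (fun W => F.obj.mapIso (eqToIso (img_preimage f V W.unop)).op.symm) (fun {A B} i => by
      exact (F.obj.map_comp _ _).symm.trans ((congrArg F.obj.map (Subsingleton.elim _ _)).trans (F.obj.map_comp _ _)))))
    (fun {F G} φ => by
      apply (sheafToPresheaf _ _).map_injective
      simp only [Functor.map_comp, Functor.preimageIso_hom, Functor.map_preimage]
      ext W : 2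
      exact (φ.hom.naturality _).symm)

theorem nonempty_Rpush_restr_iso (F : CohTop.Ab X) (p : ℕ) :
    Nonempty (CohTop.restr ((CohTop.Rpush f p).obj F) V ≅
      (CohTop.Rpush (restrBase f V) p).obj (CohTop.restr F ((Opens.map f).obj V))) := by
  have hR : ∀ {Z : TopCat.{u}} (U : Opens Z), (CohTop.restrFunctor U).Additive ∧
      Nonempty ((CohTop.restrFunctor U).PreservesHomology) := fun U => by
    haveI : (CohTop.restrFunctor U).Additive := Functor.additive_of_iso (pullIsoRestr U)
    haveI : PreservesFiniteLimits (CohTop.restrFunctor U) := preservesFiniteLimits_of_natIso (pullIsoRestr U)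
    haveI : PreservesFiniteColimits (CohTop.restrFunctor U) :=
      ⟨fun J _ _ => preservesColimitsOfShape_of_natIso (pullIsoRestr U)⟩
    exact ⟨inferInstance, ⟨Functor.preservesHomologyOfExact _⟩⟩
  haveI := (hR V).1
  haveI := (hR V).2.some
  let U := (Opens.map f).obj V
  haveI := (hR U).1
  haveI := (hR U).2.some
  haveI : (CohTop.restrFunctor U).PreservesInjectiveObjects := ⟨fun {I} hI => @injective_restr _ U I hI⟩
  obtain ⟨a⟩ := CohLib.nonempty_rightDerived_comp_exact_iso (CohTop.push f) (CohTop.restrFunctor V) F p
  haveI : (CohTop.push (restrBase f V)).Additive := {}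
  haveI : (CohTop.restrFunctor ((Opens.map f).obj V) ⋙ CohTop.push (restrBase f V)).Additive := inferInstance
  let e := pushRestrIso f V
  let b : (CohTop.push f ⋙ CohTop.restrFunctor V).rightDerived p ≅
      (CohTop.restrFunctor U ⋙ CohTop.push (restrBase f V)).rightDerived p :=
    { hom := NatTrans.rightDerived e.hom p
      inv := NatTrans.rightDerived e.inv p
      hom_inv_id := by rw [← NatTrans.rightDerived_comp, e.hom_inv_id, NatTrans.rightDerived_id]
      inv_hom_id := by rw [← NatTrans.rightDerived_comp, e.inv_hom_id, NatTrans.rightDerived_id] }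
  exact ⟨a.symm ≪≫ b.app F ≪≫ (compIso (CohTop.restrFunctor U) (CohTop.push (restrBase f V)) p).app F⟩

end SheafExLib
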