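import Groth.Agent.QCohLib.AbCoh
import Groth.Prelude.Def_CohTop
import Mathlib.Topology.Category.TopCat.Adjunctions
import Mathlib.Topology.Sheaves.Skyscraper
import Mathlib.Topology.Sheaves.Stalks

/-! # The first step of the Godement resolution -/

universe u

open CategoryTheory CategoryTheory.Limits TopologicalSpace Opposite

namespace SheafExLib

set_option maxHeartbeats 400000

variable {Z X : TopCat.{u}}

attribute [local instance] Classical.propDecidable

lemma injective_eqToHom {A B : AddCommGrpCat.{u}} (e : A = B) : Function.Injective (eqToHom e) := by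
  subst e
  exact fun a b h => h

theorem isFlasque_of_discrete [DiscreteTopology Z] (G : TopCat.Sheaf AddCommGrpCat.{u} Z) : G.IsFlasque where
  epi {A B} i := by
    rw [AddCommGrpCat.epi_iff_surjective]
    intro s
    let W : Opens Z := ⟨(A.unop : Set Z) \ B.unop, isOpen_discrete _⟩
    let Us : ULift.{u} Bool → Opens Z := fun b => cond b.down B.unop W
    let sf : ∀ b : ULift.{u} Bool, G.obj.obj (op (Us b)) := fun
      | ⟨true⟩ => s
      | ⟨false⟩ => 0
    have hbot : ∀ (O : Opens Z), O ≤ B.unop → O ≤ W → ∀ a b : G.obj.obj (op O), a = b :=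
      fun O hB hW a b => TopCat.Presheaf.section_ext G O a b fun x hx => absurd (hB hx) (hW hx).2
    have hc : TopCat.Presheaf.IsCompatible G.obj Us sf := by
      rintro ⟨_ | _⟩ ⟨_ | _⟩
      · rfl
      · exact hbot _ inf_le_right inf_le_left _ _
      · exact hbot _ inf_le_left inf_le_right _ _
      · rfl
    obtain ⟨y, hy, -⟩ := TopCat.Sheaf.existsUnique_gluing (X := Z) G Us sf hc
    have hle : A.unop ≤ iSup Us := fun x hx => Opens.mem_iSup.2 (by
      by_cases h : x ∈ B.unop
      · exact ⟨⟨true⟩, h⟩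
      · exact ⟨⟨false⟩, hx, h⟩)
    refine ⟨G.obj.map (homOfLE hle).op y, ?_⟩
    refine (ConcreteCategory.congr_hom (G.obj.map_comp (homOfLE hle).op i) y).symm.trans ?_
    exact (ConcreteCategory.congr_hom (congrArg G.obj.map (Subsingleton.elim _ _)) y).trans (hy ⟨true⟩)

theorem mono_unit_of_surjective (f : Z ⟶ X) (hf : Function.Surjective f) (F : CohTop.Ab X) :
    Mono ((TopCat.Sheaf.pullbackPushforwardAdjunction AddCommGrpCat.{u} f).unit.app F) := by
  let η := (TopCat.Sheaf.pullbackPushforwardAdjunction AddCommGrpCat.{u} f).unit.app F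
  suffices h : ∀ U, Mono (η.hom.app U) by
    haveI : Mono ((sheafToPresheaf _ _).map η) := NatTrans.mono_of_mono_app η.hom
    exact (sheafToPresheaf _ _).mono_of_mono_map this
  intro U
  rw [AddCommGrpCat.mono_iff_injective]
  refine (injective_iff_map_eq_zero (η.hom.app U).hom).2 fun s hs => ?_
  apply TopCat.Presheaf.section_ext (show TopCat.Sheaf AddCommGrpCat X from F) U.unop
  intro x hx
  obtain ⟨z, rfl⟩ := hf x
  let A := TopCat.Presheaf.stalk F.obj (f z)
  let q : F ⟶ (TopCat.Sheaf.pushforward AddCommGrpCat.{u} f).obj (skyscraperSheaf z A) :=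
    ⟨StalkSkyscraperPresheafAdjunctionAuxs.toSkyscraperPresheaf (f z) (𝟙 A)⟩
  obtain ⟨q', hq'⟩ := ((TopCat.Sheaf.pullbackPushforwardAdjunction AddCommGrpCat.{u} f).homEquiv _ _).surjective q
  have h0 : q.hom.app U s = 0 := by
    have e : η ≫ (TopCat.Sheaf.pushforward AddCommGrpCat.{u} f).map q' = q :=
      ((TopCat.Sheaf.pullbackPushforwardAdjunction AddCommGrpCat.{u} f).homEquiv_unit _ _ _).symm.trans hq'
    rw [← e]
    change ((TopCat.Sheaf.pushforward AddCommGrpCat.{u} f).map q').hom.app U (η.hom.app U s) = 0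
    rw [hs, map_zero]
  change (StalkSkyscraperPresheafAdjunctionAuxs.toSkyscraperPresheaf (f z) (𝟙 A)).app U s = 0 at h0
  have e2 : (StalkSkyscraperPresheafAdjunctionAuxs.toSkyscraperPresheaf (f z) (𝟙 A)).app U =
      TopCat.Presheaf.germ (show TopCat.Presheaf AddCommGrpCat X from F.obj) U.unop (f z) hx ≫ 𝟙 A ≫ eqToHom _ :=
    dif_pos hx
  have h1 := (ConcreteCategory.congr_hom e2 s).symm.trans h0
  rw [Category.id_comp, ConcreteCategory.comp_apply] at h1
  refine Eq.trans ?_ (map_zero (TopCat.Presheaf.germ (show TopCat.Presheaf AddCommGrpCat X from F.obj) U.unop (f z) hx).hom).symm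
  exact (map_eq_zero_iff _ (injective_eqToHom _)).1 h1

theorem godement_first (F : CohTop.Ab X) :
    Mono ((TopCat.Sheaf.pullbackPushforwardAdjunction AddCommGrpCat.{u}
      (TopCat.adj₁.counit.app X)).unit.app F) ∧
    TopCat.Sheaf.IsFlasque ((CohTop.push (TopCat.adj₁.counit.app X)).obj
      ((CohTop.pull (TopCat.adj₁.counit.app X)).obj F)) := by
  refine ⟨mono_unit_of_surjective (TopCat.adj₁.counit.app X) (fun (x : X) => ⟨x, rfl⟩) F, ?_⟩
  haveI : DiscreteTopology ((forget TopCat.{u} ⋙ TopCat.discrete).obj X) := ⟨rfl⟩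
  haveI := isFlasque_of_discrete ((CohTop.pull (TopCat.adj₁.counit.app X)).obj F :
    TopCat.Sheaf AddCommGrpCat ((forget TopCat.{u} ⋙ TopCat.discrete).obj X))
  exact TopCat.Sheaf.IsFlasque.pushforward_isFlasque _ _

end SheafExLib
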