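import Groth.Agent.CechLib.Basic
import Mathlib.Algebra.Homology.SingleHomology
import Mathlib.Algebra.Homology.Homotopy

/-! # The Čech complex of a family containing the union -/

universe u

open CategoryTheory CategoryTheory.Limits TopologicalSpace Opposite
open CechLib

namespace SheafExLib

variable {X : TopCat.{u}} {ι : Type u} (U : ι → Opens X) (P : (Opens X)ᵒᵖ ⥤ AddCommGrpCat.{u})
  (i : ι) (hi : U i = iSup U)

include hi in
lemma cap_le_cap_cons {n : ℕ} (J : Fin (n + 1) → ι) : cap U J ≤ cap U (Fin.cons i J) :=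
  (le_cap_iff U).2 fun a => by
    refine Fin.cases ?_ (fun b => ?_) a
    · rw [Fin.cons_zero, hi]
      exact cap_le_iSup U J
    · rw [Fin.cons_succ]
      exact cap_le U J b

include hi in
lemma iSup_le_cap_const : iSup U ≤ cap U (fun _ : Fin 1 => i) := (le_cap_iff U).2 fun _ => hi.ge

lemma rs_congr {n : ℕ} (c : Cochain U P n) {J J' : Fin (n + 1) → ι} (e : J = J') {W : Opens X}
    (h : W ≤ cap U J) (h' : W ≤ cap U J') : rs P h (c J) = rs P h' (c J') := by
  subst e; rfl

/-- The contracting homotopy on cochains. -/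
def contract (n : ℕ) : Cochain U P (n + 1) →+ Cochain U P n where
  toFun c J := rs P (cap_le_cap_cons U i hi J) (c (Fin.cons i J))
  map_zero' := by funext J; simp
  map_add' c c' := by funext J; simp

/-- The augmentation. -/
def aug : P.obj (op (iSup U)) →+ Cochain U P 0 :=
  AddMonoidHom.pi fun J => rs P (cap_le_iSup U J)

/-- The evaluation at `i`. -/
def evalAt : Cochain U P 0 →+ P.obj (op (iSup U)) :=
  (rs P (iSup_le_cap_const U i hi)).comp (Pi.evalAddMonoidHom _ _)

lemma contract_dd_zero (c : Cochain U P 0) :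
    contract U P i hi 0 (dd U P 0 c) + aug U P (evalAt U P i hi c) = c := by
  funext J
  change rs P _ (dd U P 0 c (Fin.cons i J)) + rs P _ (rs P _ (c fun _ => i)) = c J
  rw [dd_apply, Fin.sum_univ_two, map_add, map_zsmul, map_zsmul, rs_rs, rs_rs, rs_rs]
  have e0 : (Fin.cons i J : Fin 2 → ι) ∘ (0 : Fin 2).succAbove = J := by
    funext a; simp
  have e1 : (Fin.cons i J : Fin 2 → ι) ∘ (1 : Fin 2).succAbove = fun _ => i := by
    funext a; fin_cases a; simp
  rw [rs_congr U P c e0 _ le_rfl, rs_congr U P c e1 _ ((cap_le_iSup U J).trans (iSup_le_cap_const U i hi)), rs_self]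
  simp

lemma contract_dd_succ (n : ℕ) (c : Cochain U P (n + 1)) :
    contract U P i hi (n + 1) (dd U P (n + 1) c) + dd U P n (contract U P i hi n c) = c := by
  funext J
  change rs P _ (dd U P (n + 1) c (Fin.cons i J)) + dd U P n (contract U P i hi n c) J = c J
  rw [dd_apply, dd_apply, Fin.sum_univ_succ, map_add, map_zsmul, map_sum, rs_rs]
  have e0 : (Fin.cons i J : Fin (n + 3) → ι) ∘ (0 : Fin (n + 3)).succAbove = J := by
    funext a; simp
  rw [rs_congr U P c e0 _ le_rfl, rs_self]
  refine (add_assoc _ _ _).trans ?_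
  rw [← Finset.sum_add_distrib, Fintype.sum_eq_zero, add_zero]
  · simp only [Fin.val_zero, pow_zero, one_zsmul]
  intro k
  have ek : (Fin.cons i J : Fin (n + 3) → ι) ∘ k.succ.succAbove = Fin.cons i (J ∘ k.succAbove) := by
    funext a
    refine Fin.cases ?_ (fun b => ?_) a <;> simp
  change _ + ((-1 : ℤ) ^ (k : ℕ)) • rs P _ (rs P _ (c (Fin.cons i (J ∘ k.succAbove)))) = 0
  rw [map_zsmul, rs_rs, rs_rs, rs_congr U P c ek _ ((cap_le_cap_cons U i hi J).trans
    ((cap_comp_le U _ k.succ.succAbove).trans_eq (congrArg (cap U) ek)))]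
  rw [← add_zsmul, Fin.val_succ, pow_succ, mul_neg_one, neg_add_cancel, zero_zsmul]

lemma dd_aug (s : P.obj (op (iSup U))) : dd U P 0 (aug U P s) = 0 := by
  funext J
  rw [dd_apply, Fin.sum_univ_two]
  change (-1 : ℤ) ^ ((0 : Fin 2) : ℕ) • rs P _ (rs P _ s) + (-1 : ℤ) ^ ((1 : Fin 2) : ℕ) • rs P _ (rs P _ s) = 0
  rw [rs_rs, rs_rs]
  simp

lemma evalAt_aug (s : P.obj (op (iSup U))) : evalAt U P i hi (aug U P s) = s :=
  (rs_rs P _ _ s).trans (rs_self P s)

/-- A cochain map as a morphism. -/
noncomputable def cochainHom {n m : ℕ} (f : Cochain U P n →+ Cochain U P m) : (cx U P).X n ⟶ (cx U P).X m :=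
  AddCommGrpCat.ofHom ((cochainEquiv U P m).symm.toAddMonoidHom.comp (f.comp (cochainEquiv U P n).toAddMonoidHom))

/-- The augmented map. -/
noncomputable def augHom : P.obj (op (iSup U)) ⟶ (cx U P).X 0 :=
  AddCommGrpCat.ofHom ((cochainEquiv U P 0).symm.toAddMonoidHom.comp (aug U P))

/-- The retraction. -/
noncomputable def evalHom : (cx U P).X 0 ⟶ P.obj (op (iSup U)) :=
  AddCommGrpCat.ofHom ((evalAt U P i hi).comp (cochainEquiv U P 0).toAddMonoidHom)

lemma cochainEquiv_d (n : ℕ) (x : (cx U P).X n) :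
    (cx U P).d n (n + 1) x = (cochainEquiv U P (n + 1)).symm (dd U P n (cochainEquiv U P n x)) := by
  rw [← ev_d, AddEquiv.symm_apply_apply]

include hi in
theorem nonempty_homotopyEquiv : Nonempty (HomotopyEquiv
    ((CochainComplex.single₀ AddCommGrpCat.{u}).obj (P.obj (op (iSup U)))) (cx U P)) := by
  have hd : augHom U P ≫ (cx U P).d 0 1 = 0 := by
    ext s
    refine (cochainEquiv_d U P 0 _).trans ?_
    change (cochainEquiv U P 1).symm (dd U P 0 (cochainEquiv U P 0 ((cochainEquiv U P 0).symm (aug U P s)))) = 0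
    rw [AddEquiv.apply_symm_apply, dd_aug, map_zero]
  let f : (CochainComplex.single₀ AddCommGrpCat.{u}).obj (P.obj (op (iSup U))) ⟶ cx U P :=
    (CochainComplex.fromSingle₀Equiv (cx U P) _).symm ⟨augHom U P, hd⟩
  let g : cx U P ⟶ (CochainComplex.single₀ AddCommGrpCat.{u}).obj (P.obj (op (iSup U))) :=
    (CochainComplex.toSingle₀Equiv (cx U P) _).symm (evalHom U P i hi)
  have hf : f.f 0 = augHom U P := by simp [f]
  have hg : g.f 0 = evalHom U P i hi := by simp [g]
  let h : ∀ a b : ℕ, (cx U P).X a ⟶ (cx U P).X b := fun a b =>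
    if e : b + 1 = a then eqToHom (by rw [e]) ≫ cochainHom U P (contract U P i hi b) else 0
  have hh : ∀ n, h (n + 1) n = cochainHom U P (contract U P i hi n) := fun n => by simp [h]
  refine ⟨{ hom := f, inv := g, homotopyHomInvId := Homotopy.ofEq ?_, homotopyInvHomId :=
    Homotopy.symm { hom := h, zero := fun a b hab => dif_neg hab, comm := fun n => ?_ } }⟩
  · apply HomologicalComplex.from_single_hom_ext
    rw [HomologicalComplex.comp_f, hf, hg]
    ext s
    change evalAt U P i hi (cochainEquiv U P 0 ((cochainEquiv U P 0).symm (aug U P s))) = s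
    rw [AddEquiv.apply_symm_apply, evalAt_aug]
  · cases n with
    | zero =>
      rw [Homotopy.dNext_cochainComplex, Homotopy.prevD_zero_cochainComplex, hh, add_zero, HomologicalComplex.id_f,
        HomologicalComplex.comp_f, hf, hg]
      ext x
      apply (cochainEquiv U P 0).injective
      change cochainEquiv U P 0 x = cochainEquiv U P 0
        ((cochainEquiv U P 0).symm (contract U P i hi 0 (cochainEquiv U P 1 ((cx U P).d 0 1 x))) +
          (cochainEquiv U P 0).symm (aug U P (evalAt U P i hi (cochainEquiv U P 0 x))))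
      rw [map_add, AddEquiv.apply_symm_apply, AddEquiv.apply_symm_apply, ev_d, contract_dd_zero]
    | succ n =>
      rw [Homotopy.dNext_cochainComplex, Homotopy.prevD_succ_cochainComplex, hh, hh, HomologicalComplex.id_f,
        HomologicalComplex.comp_f]
      have hz : g.f (n + 1) = 0 := (HomologicalComplex.isZero_single_obj_X (ComplexShape.up ℕ) 0
        (P.obj (op (iSup U))) (n + 1) (by simp)).eq_of_tgt _ _
      rw [hz, zero_comp, add_zero]
      ext x
      apply (cochainEquiv U P (n + 1)).injective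
      change cochainEquiv U P (n + 1) x = cochainEquiv U P (n + 1)
        ((cochainEquiv U P (n + 1)).symm (contract U P i hi (n + 1) (cochainEquiv U P (n + 2) ((cx U P).d (n + 1) (n + 2) x))) +
          (cx U P).d n (n + 1) ((cochainEquiv U P n).symm (contract U P i hi n (cochainEquiv U P (n + 1) x))))
      rw [map_add, AddEquiv.apply_symm_apply, ev_d, ev_d, AddEquiv.apply_symm_apply, contract_dd_succ]

end SheafExLib
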