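import Groth.Agent.CohTopLib.Const
import Mathlib.CategoryTheory.Subobject.Limits
import Mathlib.Algebra.Category.Grp.Abelian
import Mathlib.GroupTheory.Archimedean

/-! # Subsheaves of the constant sheaf `ℤ` on an irreducible space -/

universe u

set_option linter.style.haveILetI false

open CategoryTheory CategoryTheory.Limits TopologicalSpace Opposite

namespace SheafExLib

open CohTopLib

variable {X : TopCat.{u}} [IrreducibleSpace X] {H : CohTop.Ab X} (ι : H ⟶ CohTop.const X (ULift.{u} ℤ))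

lemma constSec_add (V : Opens X) (a b : ULift.{u} ℤ) :
    constSec (ULift.{u} ℤ) V (a + b) = constSec (ULift.{u} ℤ) V a + constSec (ULift.{u} ℤ) V b :=
  map_add ((toSheafify (Opens.grothendieckTopology X) (constPre (ULift.{u} ℤ))).app (op V)).hom a b

lemma constSec_zero (V : Opens X) : constSec (ULift.{u} ℤ) V (0 : ULift.{u} ℤ) = 0 :=
  map_zero ((toSheafify (Opens.grothendieckTopology X) (constPre (ULift.{u} ℤ))).app (op V)).hom

lemma constSec_neg (V : Opens X) (a : ULift.{u} ℤ) :
    constSec (ULift.{u} ℤ) V (-a) = -constSec (ULift.{u} ℤ) V a :=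
  map_neg ((toSheafify (Opens.grothendieckTopology X) (constPre (ULift.{u} ℤ))).app (op V)).hom a

lemma constSec_zsmul (V : Opens X) (n : ℤ) (a : ULift.{u} ℤ) :
    constSec (ULift.{u} ℤ) V (n • a) = n • constSec (ULift.{u} ℤ) V a :=
  map_zsmul ((toSheafify (Opens.grothendieckTopology X) (constPre (ULift.{u} ℤ))).app (op V)).hom n a

lemma map_mem_range {V W : Opens X} (i : W ⟶ V) {a : ULift.{u} ℤ}
    (h : constSec (ULift.{u} ℤ) V a ∈ Set.range (ι.hom.app (op V))) :
    constSec (ULift.{u} ℤ) W a ∈ Set.range (ι.hom.app (op W)) := by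
  obtain ⟨t, ht⟩ := h
  exact ⟨H.obj.map i.op t, (NatTrans.naturality_apply ι.hom i.op t).trans
    ((congrArg _ ht).trans (res_constSec _ i a))⟩

/-- The integers which are generic sections of the subsheaf. -/
def genGroup : AddSubgroup ℤ where
  carrier := {a | ∃ V : Opens X, (V : Set X).Nonempty ∧
    constSec (ULift.{u} ℤ) V ⟨a⟩ ∈ Set.range (ι.hom.app (op V))}
  zero_mem' := ⟨⊤, by simp, 0, (map_zero _).trans (constSec_zero ⊤).symm⟩
  add_mem' := by
    rintro a b ⟨V, hV, ha⟩ ⟨W, hW, hb⟩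
    refine ⟨V ⊓ W, nonempty_preirreducible_inter V.isOpen W.isOpen hV hW, ?_⟩
    obtain ⟨s, hs⟩ := map_mem_range ι (homOfLE inf_le_left : V ⊓ W ⟶ V) ha
    obtain ⟨t, ht⟩ := map_mem_range ι (homOfLE inf_le_right : V ⊓ W ⟶ W) hb
    exact ⟨s + t, (map_add (ι.hom.app (op (V ⊓ W))).hom s t).trans
      ((congrArg₂ (· + ·) hs ht).trans (constSec_add _ _ _).symm)⟩
  neg_mem' := by
    rintro a ⟨V, hV, s, hs⟩
    exact ⟨V, hV, -s, (map_neg (ι.hom.app (op V)).hom s).trans
      ((congrArg Neg.neg hs).trans (constSec_neg _ _).symm)⟩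

variable [Mono ι]

theorem exists_open_imageSubobject_eq :
    ∃ (U : Opens X) (d : ℤ), U ≠ ⊥ ∧ imageSubobject ((CohTop.restrFunctor U).map ι) =
      imageSubobject ((CohTop.restrFunctor U).map (d • 𝟙 (CohTop.const X (ULift.{u} ℤ)))) := by
  obtain ⟨d, hd⟩ := Int.subgroup_cyclic (genGroup ι)
  obtain ⟨U, hU, hdU⟩ : d ∈ genGroup ι := hd ▸ AddSubgroup.mem_closure_singleton_self d
  refine ⟨U, d, fun h => by simp [h] at hU, ?_⟩
  let R := CohTop.restrFunctor U
  let C := CohTop.const X (ULift.{u} ℤ)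
  haveI : Mono ι.hom := (sheafToPresheaf _ _).map_mono ι
  have hinj : ∀ W : Opens X, Function.Injective (ι.hom.app (op W)) := fun W =>
    (AddCommGrpCat.mono_iff_injective _).1 inferInstance
  have hmul : ∀ (W : Opens X) (a : ℤ), constSec (ULift.{u} ℤ) W ⟨a * d⟩ =
      a • constSec (ULift.{u} ℤ) W ⟨d⟩ := fun W a => by
    rw [← constSec_zsmul]; congr 1
  have hlift : ∀ (W : (Opens (TopCat.of U))ᵒᵖ) (s : C.obj.obj (op (img U W.unop))),
      d • s ∈ Set.range (ι.hom.app (op (img U W.unop))) := fun W s => by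
    obtain ⟨⟨a⟩, rfl⟩ := exists_eq_constSec _ _ s
    rw [← constSec_zsmul]
    have hle : img U W.unop ≤ U := by rintro _ ⟨x, -, rfl⟩; exact x.2
    obtain ⟨t, ht⟩ := map_mem_range ι (homOfLE hle) hdU
    refine ⟨a • t, (map_zsmul (ι.hom.app _).hom a t).trans ((congrArg (a • ·) ht).trans ?_)⟩
    rw [← constSec_zsmul]
    congr 1
    exact ULift.ext _ _ (mul_comm a d)
  choose l hl using hlift
  let φ : R.obj C ⟶ R.obj H := ⟨
    { app := fun W => AddCommGrpCat.ofHom (AddMonoidHom.mk' (fun s => l W s) fun s t => hinj _ (by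
        refine (hl W (s + t)).trans ?_
        refine Eq.trans ?_ (map_add (ι.hom.app (op (img U W.unop))).hom _ _).symm
        rw [hl, hl]
        exact zsmul_add s t d))
      naturality := fun {W W'} i => by
        ext s
        apply hinj
        refine (hl W' _).trans ?_
        refine Eq.trans ?_ (NatTrans.naturality_apply ι.hom _ _).symm
        refine Eq.trans ?_ (congrArg (C.obj.map (U.isOpenEmbedding.isOpenMap.functor.map i.unop).op) (hl W s)).symm
        exact (map_zsmul _ d s).symm }⟩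
  have hφ : φ ≫ R.map ι = R.map (d • 𝟙 C) := by
    apply Sheaf.hom_ext
    ext W s
    refine (hl W s).trans ?_
    rfl
  haveI : Epi φ := by
    haveI : ∀ W, Epi (φ.hom.app W) := fun W => by
      rw [AddCommGrpCat.epi_iff_surjective]
      intro t
      rcases (img U W.unop : Set X).eq_empty_or_nonempty with h | hne
      · refine ⟨0, hinj _ (TopCat.Presheaf.section_ext (C : TopCat.Sheaf AddCommGrpCat X) _ _ _
          fun x hx => absurd (show x ∈ (img U W.unop : Set X) from hx) (by rw [h]; exact Set.notMem_empty x))⟩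
      obtain ⟨⟨b⟩, hb⟩ := exists_eq_constSec _ _ (ι.hom.app (op (img U W.unop)) t)
      have hbd : b ∈ genGroup ι := ⟨_, hne, t, hb⟩
      rw [hd, AddSubgroup.mem_closure_singleton] at hbd
      obtain ⟨a, rfl⟩ := hbd
      refine ⟨constSec (ULift.{u} ℤ) (img U W.unop) ⟨a⟩, hinj _ ((hl W _).trans ?_)⟩
      refine Eq.trans ?_ hb.symm
      rw [← constSec_zsmul]
      congr 1
      exact ULift.ext _ _ (mul_comm d a)
    haveI : Epi ((sheafToPresheaf _ _).map φ) := NatTrans.epi_of_epi_app φ.hom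
    exact (sheafToPresheaf _ _).epi_of_epi_map this
  haveI : Mono (R.map ι) := inferInstance
  have h : imageSubobject (φ ≫ R.map ι) = imageSubobject (R.map ι) := by
    haveI : IsIso (Subobject.ofLE _ _ (imageSubobject_comp_le φ (R.map ι))) := isIso_of_mono_of_epi _
    exact Subobject.eq_of_comm (asIso (Subobject.ofLE _ _ (imageSubobject_comp_le φ (R.map ι))))
      (Subobject.ofLE_arrow _)
  rw [← h, hφ]

end SheafExLib
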