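import Mathlib.AlgebraicGeometry.Properties
import Mathlib.Topology.Sheaves.Stalks
import Mathlib.Topology.Sheaves.AddCommGrpCat
import Mathlib.Topology.NoetherianSpace

/-! # Germs supported in the closure of a point -/

universe u

open CategoryTheory CategoryTheory.Limits AlgebraicGeometry TopologicalSpace Opposite

namespace SheafExLib

variable {X : Scheme.{u}}

theorem germ_supported_iff (hX : ∀ x : X, ∃ U : X.Opens, x ∈ U ∧ TopologicalSpace.NoetherianSpace U)
    (F : TopCat.Sheaf AddCommGrpCat.{u} X.carrier) (x : X) (s : F.presheaf.stalk x) :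
    (∃ (U : X.Opens) (hx : x ∈ U) (t : F.presheaf.obj (Opposite.op U)),
        F.presheaf.germ U x hx t = s ∧
          ∀ (u : X) (hu : u ∈ U), F.presheaf.germ U u hu t ≠ 0 → u ∈ closure ({x} : Set X)) ↔
      ∀ (y : X) (h : y ⤳ x), y ≠ x → F.presheaf.stalkSpecializes h s = 0 := by
  constructor
  · rintro ⟨U, hx, t, rfl, ht⟩ y h hy
    rw [TopCat.Presheaf.germ_stalkSpecializes_apply]
    by_contra hne
    exact hy (h.antisymm (specializes_iff_mem_closure.2 (ht y _ hne))).eq
  · intro hs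
    obtain ⟨U₀, hxU₀, hN⟩ := hX x
    obtain ⟨U, hxU, t, rfl⟩ := F.presheaf.exists_germ_eq s
    let V : X.Opens := U₀ ⊓ U
    haveI : NoetherianSpace (U₀ : Set X) := hN
    haveI : NoetherianSpace V :=
      (Topology.IsInducing.of_comp (f := Set.inclusion (inf_le_left : (V : Set X) ≤ U₀)) (by fun_prop)
        continuous_subtype_val Topology.IsInducing.subtypeVal).noetherianSpace
    let t' := F.presheaf.map (homOfLE (inf_le_right : V ≤ U)).op t
    let Z : Set V := {u | F.presheaf.germ V u.1 u.2 t' ≠ 0}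
    have hZ : IsClosed Z := by
      rw [← isOpen_compl_iff, isOpen_iff_forall_mem_open]
      intro u hu
      simp only [Z, Set.mem_compl_iff, Set.mem_ofPred_eq, not_not] at hu
      obtain ⟨W, huW, iU, iV, he⟩ := F.presheaf.germ_eq u.1 u.2 u.2 t' 0 (hu.trans (map_zero _).symm)
      refine ⟨Subtype.val ⁻¹' (W : Set X), fun v hv => ?_, W.isOpen.preimage continuous_subtype_val, huW⟩
      simp only [Z, Set.mem_compl_iff, Set.mem_ofPred_eq, not_not]
      rw [← F.presheaf.germ_res_apply iU v.1 hv t', he, map_zero, map_zero]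
    obtain ⟨S, hSf, hSc, hSi, hSu⟩ := NoetherianSpace.exists_finite_set_isClosed_irreducible hZ
    let bad : Set (Set V) := {T ∈ S | (⟨x, hxU₀, hxU⟩ : V) ∉ T}
    have hbc : IsClosed (⋃₀ bad) := by
      rw [Set.sUnion_eq_biUnion]
      exact (hSf.subset (show bad ⊆ S from fun T hT => hT.1)).isClosed_biUnion fun T hT => hSc T hT.1
    let W : X.Opens := ⟨Subtype.val '' (⋃₀ bad)ᶜ, V.isOpen.isOpenMap_subtype_val _ hbc.isOpen_compl⟩
    have hWV : W ≤ V := by rintro _ ⟨v, -, rfl⟩; exact v.2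
    have hxW : x ∈ W := ⟨⟨x, hxU₀, hxU⟩, fun ⟨T, hT, h⟩ => hT.2 h, rfl⟩
    refine ⟨W, hxW, F.presheaf.map (homOfLE hWV).op t', ?_, fun u hu hne => ?_⟩
    · rw [F.presheaf.germ_res_apply, F.presheaf.germ_res_apply]
    rw [F.presheaf.germ_res_apply] at hne
    obtain ⟨v, hv, rfl⟩ := hu
    have hvZ : v ∈ Z := hne
    rw [hSu] at hvZ
    obtain ⟨T, hT, hvT⟩ := hvZ
    have hxT : (⟨x, hxU₀, hxU⟩ : V) ∈ T := by
      by_contra hc
      exact hv ⟨T, ⟨hT, hc⟩, hvT⟩
    have hirr : IsIrreducible (closure (Subtype.val '' T)) :=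
      ((hSi T hT).image _ continuous_subtype_val.continuousOn).closure
    obtain ⟨η, hη⟩ := QuasiSober.sober hirr isClosed_closure
    have hηV : η ∈ V := (hη.specializes (subset_closure ⟨_, hxT, rfl⟩)).mem_open V.isOpen
      ⟨hxU₀, hxU⟩
    have hηT : (⟨η, hηV⟩ : V) ∈ T := by
      have h1 : (⟨η, hηV⟩ : V) ∈ closure T := closure_subtype.2 hη.mem
      rwa [(hSc T hT).closure_eq] at h1
    have hηx : η ⤳ x := hη.specializes (subset_closure ⟨_, hxT, rfl⟩)
    have hηZ : (⟨η, hηV⟩ : V) ∈ Z := hSu ▸ ⟨T, hT, hηT⟩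
    have : η = x := by
      by_contra hc
      apply hηZ
      have h0 := hs η hηx hc
      rw [TopCat.Presheaf.germ_stalkSpecializes_apply] at h0
      exact (F.presheaf.germ_res_apply _ _ _ _).trans h0
    subst this
    exact (hη.specializes (subset_closure ⟨v, hvT, rfl⟩)).mem_closure

end SheafExLib
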