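import Mathlib.Algebra.Category.Grp.Limits
import Mathlib.Algebra.Category.Grp.FilteredColimits
import Mathlib.Topology.Sheaves.SheafCondition.UniqueGluing
import Mathlib.Order.Zorn

/-! # Exact sequences of sheaves of groups with flasque kernel -/

universe u

open CategoryTheory CategoryTheory.Limits TopologicalSpace Opposite

namespace SheafExLib

variable {X : TopCat.{u}} {F G H : TopCat.Presheaf GrpCat.{u} X}

lemma resG (P : TopCat.Presheaf GrpCat.{u} X) {a b c : Opens X} (h : b ≤ a) (h' : c ≤ b) (h'' : c ≤ a)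
    (x : P.obj (op a)) : P.map (homOfLE h').op (P.map (homOfLE h).op x) = P.map (homOfLE h'').op x :=
  (ConcreteCategory.congr_hom (P.map_comp (homOfLE h).op (homOfLE h').op) x).symm.trans
    (ConcreteCategory.congr_hom (congrArg P.map (Subsingleton.elim _ _)) x)

lemma resG_self (P : TopCat.Presheaf GrpCat.{u} X) {a : Opens X} (h : a ≤ a) (x : P.obj (op a)) :
    P.map (homOfLE h).op x = x :=
  (ConcreteCategory.congr_hom (congrArg P.map (Subsingleton.elim _ (𝟙 (op a)))) x).trans
    (ConcreteCategory.congr_hom (P.map_id _) x)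

/-- A partial lift of a section. -/
structure PartialLift (β : G ⟶ H) {U : Opens X} (s : H.obj (op U)) where
  /-- the domain -/
  dom : Opens X
  /-- the domain is contained in `U` -/
  le : dom ≤ U
  /-- the lift -/
  sec : G.obj (op dom)
  /-- it is a lift -/
  eq : β.app (op dom) sec = H.map (homOfLE le).op s

theorem surjective_of_flasque_kernel (hG : G.IsSheaf) (hH : H.IsSheaf) (α : F ⟶ G) (β : G ⟶ H)
    (hex : ∀ (U : Opens X) (g : G.obj (op U)),
      (β.app (op U)).hom g = 1 ↔ g ∈ Set.range (α.app (op U)).hom)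
    (hβ : ∀ (U : Opens X) (s : H.obj (op U)) (x : X), x ∈ U →
      ∃ (V : Opens X) (hV : V ≤ U), x ∈ V ∧ ∃ g : G.obj (op V), (β.app (op V)).hom g = (H.map (homOfLE hV).op).hom s)
    (hfl : ∀ (U V : Opens X) (hUV : V ≤ U), Function.Surjective (F.map (homOfLE hUV).op).hom)
    (U : Opens X) : Function.Surjective (β.app (op U)).hom := by
  intro s
  let r : PartialLift β s → PartialLift β s → Prop := fun a b =>
    ∃ h : a.dom ≤ b.dom, G.map (homOfLE h).op b.sec = a.sec
  obtain ⟨m, hm⟩ := exists_maximal_of_chains_bounded (r := r) (fun c hc => by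
    let Us : c → Opens X := fun i => i.1.dom
    have hcompat : TopCat.Presheaf.IsCompatible G Us (fun i => i.1.sec) := fun i j => by
      rcases eq_or_ne i.1 j.1 with e | e
      · obtain rfl : i = j := Subtype.ext e
        rfl
      rcases hc i.2 j.2 e with ⟨h, he⟩ | ⟨h, he⟩
      · change G.map _ i.1.sec = G.map _ j.1.sec
        rw [← he]
        exact resG G h inf_le_left inf_le_right _
      · change G.map _ i.1.sec = G.map _ j.1.sec
        rw [← he]
        exact (resG G h inf_le_right inf_le_left _).symm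
    obtain ⟨g, hg, -⟩ := TopCat.Sheaf.existsUnique_gluing (X := X) ⟨G, hG⟩ Us (fun i => i.1.sec) hcompat
    refine ⟨⟨iSup Us, iSup_le fun i => i.1.le, g, ?_⟩, fun a ha => ⟨le_iSup Us ⟨a, ha⟩, hg ⟨a, ha⟩⟩⟩
    refine TopCat.Sheaf.eq_of_locally_eq (X := X) ⟨H, hH⟩ Us _ _ fun i => ?_
    refine (NatTrans.naturality_apply β _ g).symm.trans ?_
    refine (congrArg (β.app (op i.1.dom)) (hg i)).trans (i.1.eq.trans ?_)
    exact (resG H _ _ _ s).symm)
    (fun {a b c} ⟨h, he⟩ ⟨h', he'⟩ => ⟨h.trans h', by
      rw [← he, ← he']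
      exact (resG G h' h _ _).symm⟩)
  have hU : U ≤ m.dom := fun x hx => by
    obtain ⟨W, hW, hxW, t, ht⟩ := hβ U s x hx
    let O := m.dom ⊓ W
    let g₀ := G.map (homOfLE (inf_le_left : O ≤ m.dom)).op m.sec
    let t₀ := G.map (homOfLE (inf_le_right : O ≤ W)).op t
    have hker : (β.app (op O)).hom (g₀ * t₀⁻¹) = 1 := by
      have e1 : (β.app (op O)).hom g₀ = H.map (homOfLE (inf_le_left.trans m.le : O ≤ U)).op s :=
        (NatTrans.naturality_apply β _ m.sec).trans ((congrArg _ m.eq).trans (resG H m.le inf_le_left _ s))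
      have e2 : (β.app (op O)).hom t₀ = H.map (homOfLE (inf_le_left.trans m.le : O ≤ U)).op s :=
        (NatTrans.naturality_apply β _ t).trans ((congrArg _ ht).trans (resG H hW inf_le_right _ s))
      rw [map_mul, map_inv, e1, e2, mul_inv_cancel]
    obtain ⟨f, hf⟩ := (hex O _).1 hker
    obtain ⟨f', hf'⟩ := hfl W O inf_le_right f
    let t' := (α.app (op W)).hom f' * t
    have ht' : (β.app (op W)).hom t' = H.map (homOfLE hW).op s := by
      rw [map_mul, (hex W _).2 ⟨f', rfl⟩, one_mul]
      exact ht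
    have hagree : G.map (homOfLE (inf_le_right : O ≤ W)).op t' = g₀ := by
      refine (map_mul (G.map _).hom _ _).trans ?_
      have e3 : (G.map (homOfLE (inf_le_right : O ≤ W)).op).hom ((α.app (op W)).hom f') = g₀ * t₀⁻¹ :=
        (NatTrans.naturality_apply α _ f').symm.trans ((congrArg (α.app (op O)) hf').trans hf)
      rw [e3]
      exact inv_mul_cancel_right g₀ t₀
    let Us : ULift.{u} Bool → Opens X := fun b => cond b.down m.dom W
    let sf : ∀ b : ULift.{u} Bool, G.obj (op (Us b)) := fun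
      | ⟨true⟩ => m.sec
      | ⟨false⟩ => t'
    have hc : TopCat.Presheaf.IsCompatible G Us sf := by
      rintro ⟨_ | _⟩ ⟨_ | _⟩
      · rfl
      · change G.map _ t' = G.map _ m.sec
        refine (resG G (inf_le_right : O ≤ W) (le_inf inf_le_right inf_le_left) inf_le_left t').symm.trans ?_
        exact (congrArg _ hagree).trans (resG G _ _ inf_le_right _)
      · change G.map _ m.sec = G.map _ t'
        exact hagree.symm
      · rfl
    obtain ⟨g, hg, -⟩ := TopCat.Sheaf.existsUnique_gluing (X := X) ⟨G, hG⟩ Us sf hc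
    have hUs : ∀ i, Us i ≤ U := by rintro ⟨_ | _⟩ <;> [exact hW; exact m.le]
    let m' : PartialLift β s := ⟨iSup Us, iSup_le hUs, g, by
      refine TopCat.Sheaf.eq_of_locally_eq (X := X) ⟨H, hH⟩ Us _ _ fun i => ?_
      refine (NatTrans.naturality_apply β _ g).symm.trans ?_
      refine (congrArg (β.app (op (Us i))) (hg i)).trans ?_
      refine Eq.trans ?_ (resG H _ _ (hUs i) s).symm
      rcases i with ⟨_ | _⟩
      · exact ht'
      · exact m.eq⟩
    obtain ⟨h, -⟩ := hm m' ⟨le_iSup Us ⟨true⟩, hg ⟨true⟩⟩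
    exact h (le_iSup Us ⟨false⟩ hxW)
  refine ⟨G.map (homOfLE hU).op m.sec, ?_⟩
  refine (NatTrans.naturality_apply β _ m.sec).trans ((congrArg _ m.eq).trans ?_)
  exact (resG H m.le hU le_rfl s).trans (resG_self H _ s)

end SheafExLib
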